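import Groth.Agent.GrLCLib.AuslBuchs
import Groth.Agent.S15428
import Groth.Agent.S16323

/-!
Sharpness of the bound for the Hilbert function to agree with the Hilbert polynomial.
-/

set_option autoImplicit false
set_option linter.unusedSectionVars false
set_option linter.style.haveILetI false
universe u

open scoped Classical Pointwise

noncomputable section

namespace Groth.Agent.HilbSharp

section Last

variable {k : Type u} [Field k] {n : ℕ}

lemma WithBot.le_self_add_iff_nonpos_aux {a : WithBot ℕ∞} {m : ℕ} (h : a + (m : WithBot ℕ∞) ≤ (m : WithBot ℕ∞)) :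
    a ≤ 0 := by
  induction a with
  | bot => exact bot_le
  | coe t =>
    induction t with
    | top =>
      exfalso
      have h' : ((⊤ : ℕ∞) + (m : ℕ∞)) ≤ (m : ℕ∞) := by exact_mod_cast h
      simp at h'
    | coe t =>
      have h' : t + m ≤ m := by exact_mod_cast h
      have : t = 0 := by omega
      subst this
      exact le_rfl

lemma isFiniteLength_of_dim {R : Type u} [CommRing R] [IsNoetherianRing R] {M : Type u} [AddCommGroup M] [Module R M]
    [Module.Finite R M] (h : Module.supportDim R M ≤ 0) : IsFiniteLength R M := by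
  rw [Module.supportDim_eq_ringKrullDim_quotient_annihilator] at h
  haveI : Ring.KrullDimLE 0 (R ⧸ Module.annihilator R M) := (Order.krullDimLE_iff 0 _).2 (by rw [ringKrullDim] at h; simpa using h)
  haveI : IsArtinianRing (R ⧸ Module.annihilator R M) :=
    isArtinianRing_iff_isNoetherianRing_krullDimLE_zero.2 ⟨inferInstance, inferInstance⟩
  letI : Module (R ⧸ Module.annihilator R M) M := (Module.isTorsionBySet_annihilator R M).module
  haveI : IsScalarTower R (R ⧸ Module.annihilator R M) M := (Module.isTorsionBySet_annihilator R M).isScalarTower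
  haveI : Module.Finite (R ⧸ Module.annihilator R M) M := Module.Finite.of_restrictScalars_finite R _ M
  haveI : IsArtinian R M := by
    exact isArtinian_of_surjective_algebraMap (S := R) (R := R ⧸ Module.annihilator R M) Ideal.Quotient.mk_surjective
  exact isFiniteLength_iff_isNoetherian_isArtinian.2 ⟨inferInstance, inferInstance⟩

section Cone

variable {M : Type u} [AddCommGroup M] [Module k M] [Module (MvPolynomial (Fin n) k) M]
  [IsScalarTower k (MvPolynomial (Fin n) k) M] {ℳ : ℤ → Submodule k M} [DirectSum.Decomposition ℳ]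
  [SetLike.GradedSMul (GrSyz.stdGr k (Fin n)) ℳ] {x : MvPolynomial (Fin n) k} {m : ℕ}

theorem isMinimal_cone (hm : 0 < m) (hx : x ∈ GrSyz.stdGr k (Fin n) m) (hreg : IsSMulRegular M x)
    {F : GrSyz.FreeRes (GrSyz.stdGr k (Fin n)) ℳ} (hF : F.IsMinimal (GrSyz.irrel (GrSyz.stdGr k (Fin n))).toIdeal) :
    letI := GrLCLib.xDec ℳ hx
    (GrSyzMin.cone (GrLCLib.hMap F hx) (LinearMap.range (x • (LinearMap.id : M →ₗ[MvPolynomial (Fin n) k] M))).mkQ
      (fun _ _ h => hreg h) (Submodule.mkQ_surjective _) (Submodule.ker_mkQ _).symm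
      (fun e z hz => GrSyzMin.mk_mem_quotGr hz) : GrSyz.FreeRes (GrSyz.stdGr k (Fin n))
        (GrSyzMin.quotGr ℳ (LinearMap.range (x • (LinearMap.id : M →ₗ[MvPolynomial (Fin n) k] M))))).IsMinimal
      (GrSyz.irrel (GrSyz.stdGr k (Fin n))).toIdeal := by
  letI := GrLCLib.xDec ℳ hx
  have hφ : ∀ i a b, MvPolynomial.constantCoeff ((GrLCLib.hMap F hx).φ i a b) = 0 := fun i a b => by
    have : (GrLCLib.hMap F hx).φ i a b = x * (1 : Matrix (Fin (F.rk i)) (Fin (F.rk i)) (MvPolynomial (Fin n) k)) a b := rfl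
    rw [this, map_mul, GrSyzMin.cst_eq_zero_of_ne (by omega) hx, zero_mul]
  refine GrSyzMin.isMinimal_iff.2 fun i a b => ?_
  cases i with
  | zero =>
    show MvPolynomial.constantCoeff (Fin.append (F.d 0 a) ((GrLCLib.hMap F hx).φ 0 a) b) = 0
    induction b using Fin.addCases with
    | left b => erw [Fin.append_left]; exact GrSyzMin.isMinimal_iff.1 hF 0 a b
    | right b => erw [Fin.append_right]; exact hφ 0 a b
  | succ i =>
    show MvPolynomial.constantCoeff (Fin.append (fun a => Fin.append (F.d (i + 1) a) ((GrLCLib.hMap F hx).φ (i + 1) a))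
      (fun a => Fin.append ((0 : Matrix (Fin (F.rk i)) (Fin (F.rk (i + 1 + 1))) (MvPolynomial (Fin n) k)) a) ((-F.d i) a)) a b) = 0
    induction a using Fin.addCases with
    | left a =>
      induction b using Fin.addCases with
      | left b => erw [Fin.append_left, Fin.append_left]; exact GrSyzMin.isMinimal_iff.1 hF (i + 1) a b
      | right b => erw [Fin.append_left, Fin.append_right]; exact hφ (i + 1) a b
    | right a =>
      induction b using Fin.addCases with
      | left b => erw [Fin.append_right, Fin.append_left]; exact map_zero _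
      | right b =>
        erw [Fin.append_right, Fin.append_right, map_neg, GrSyzMin.isMinimal_iff.1 hF i a b, neg_zero]

end Cone

/-- In a Cohen–Macaulay module the regularity is reached at the last step of the resolution. -/
theorem exists_last : ∀ (j : ℕ) (M : Type u) [AddCommGroup M] [Module k M] [Module (MvPolynomial (Fin n) k) M]
    [IsScalarTower k (MvPolynomial (Fin n) k) M] [Module.Finite (MvPolynomial (Fin n) k) M]
    (ℳ : ℤ → Submodule k M) [DirectSum.Decomposition ℳ] [SetLike.GradedSMul (GrSyz.stdGr k (Fin n)) ℳ]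
    (F : GrSyz.FreeRes (GrSyz.stdGr k (Fin n)) ℳ), F.IsMinimal (GrSyz.irrel (GrSyz.stdGr k (Fin n))).toIdeal →
    ∀ ℓ : ℕ, n ≤ ℓ + j → F.HasLengthLE ℓ → F.rk ℓ ≠ 0 →
      Module.supportDim (MvPolynomial (Fin n) k) M + (ℓ : WithBot ℕ∞) ≤ (n : WithBot ℕ∞) →
      ∀ ρ : ℤ, F.IsGenLE ρ → (∃ (i : ℕ) (b : Fin (F.rk i)), F.deg i b = ρ + i) → ∃ b, F.deg ℓ b = ρ + ℓ := by
  intro j
  induction j with
  | zero | succ j ih =>
    intro M _ _ _ _ _ ℳ _ _ F hF ℓ hj hℓ hℓ' hdim ρ hρ hρ'
    have hle : ℓ ≤ n := by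
      by_contra h
      exact hℓ' (GrSyzMin.hasLengthLE_numVars hF ℓ (not_le.1 h))
    haveI := GrLCLib.nontrivial_of_rk_ne hF hℓ'
    by_cases hnl : ℓ = n
    · subst hnl
      have h0 : Module.supportDim (MvPolynomial (Fin ℓ) k) M ≤ 0 := by
        exact WithBot.le_self_add_iff_nonpos_aux hdim
      obtain ⟨B, hB⟩ := GrSyzMin.exists_upper_bound ℳ (isFiniteLength_of_dim h0)
      obtain ⟨m, hm⟩ := exists_ne (0 : M)
      obtain ⟨g, hg⟩ : ∃ g, ℳ g ≠ ⊥ := by
        by_contra h
        push Not at h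
        refine hm ?_
        rw [← GrLCLib.sum_pr ℳ m]
        exact Finset.sum_eq_zero fun g _ => (Submodule.eq_bot_iff _).1 (h g) _ (GrLCLib.pr_mem ℳ g m)
      obtain ⟨d, hd, hmax⟩ := Int.exists_greatest_of_bdd (P := fun e => ℳ e ≠ ⊥)
        ⟨B, fun z hz => by by_contra hh; exact hz (hB z (by omega))⟩ ⟨g, hg⟩
      have htop : ∀ e, d < e → ℳ e = ⊥ := fun e he => by_contra fun he' => by have := hmax e he'; omega
      obtain ⟨c, hc⟩ := GrSyzMin.exists_top_deg (GrSyzMin.topPiece (n := ℓ) d htop) (GrSyzMin.homog_topPiece d htop)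
        (GrSyzMin.subGr_topPiece d htop) (by
          intro h0
          apply hd
          refine eq_bot_iff.2 fun x hx => ?_
          have := (Submodule.eq_bot_iff _).1 h0 ⟨x, hx⟩ hx
          exact (Submodule.mem_bot _).2 (congrArg Subtype.val this)) hF
      have h1 : F.IsGenLE d := (GrSyzMin.isRegLE_iff_isGenLE hF d).1 (GrSyzMin.isRegLE_of_bound ℳ d htop)
      obtain ⟨i, b, hb⟩ := hρ'
      have h2 := h1 i b
      have h3 := hρ ℓ c
      exact ⟨c, by omega⟩
    · have ht : ∀ y ∈ GrLCLib.tors k n M, y = 0 := by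
        intro y hy
        by_contra hy0
        exact GrLCLib.exists_deg_top_of_tors hF ⟨y, hy, hy0⟩ (hℓ n (lt_of_le_of_ne hle hnl))
      obtain ⟨m, x, hm, hx, hreg⟩ := GrLCLib.exists_regular (k := k) (n := n) (M := M) ht
      letI := GrLCLib.xDec ℳ hx
      let L := LinearMap.range (x • (LinearMap.id : M →ₗ[MvPolynomial (Fin n) k] M))
      first
      | exact absurd hj (by omega)
      | let G := GrSyzMin.cone (GrLCLib.hMap F hx) L.mkQ (fun _ _ h => hreg h) L.mkQ_surjective
          (Submodule.ker_mkQ L).symm (fun e z hz => GrSyzMin.mk_mem_quotGr hz)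
        have hG' : G.IsMinimal (GrSyz.irrel (GrSyz.stdGr k (Fin n))).toIdeal := isMinimal_cone hm hx hreg hF
        have hGl : G.HasLengthLE (ℓ + 1) := fun i hi => by
          obtain ⟨p, rfl⟩ : ∃ p, i = p + 1 := ⟨i - 1, by omega⟩
          show F.rk (p + 1) + F.rk p = 0
          rw [hℓ (p + 1) (by omega), hℓ p (by omega)]
        have hGr : G.rk (ℓ + 1) ≠ 0 := by
          show F.rk (ℓ + 1) + F.rk ℓ ≠ 0
          omega
        have hdim' : Module.supportDim (MvPolynomial (Fin n) k) (M ⧸ L) + ((ℓ + 1 : ℕ) : WithBot ℕ∞) ≤ (n : WithBot ℕ∞) := by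
          refine le_trans ?_ hdim
          rw [Nat.cast_add, Nat.cast_one, add_comm (ℓ : WithBot ℕ∞) 1, ← add_assoc]
          refine add_le_add_left ?_ _
          refine le_trans (add_le_add_left ?_ 1) (Module.supportDim_quotSMulTop_succ_le_of_notMem_minimalPrimes
            (x := x) fun p => hreg.notMem_of_mem_minimalPrimes)
          refine Module.supportDim_le_of_surjective ((x • (⊤ : Submodule (MvPolynomial (Fin n) k) M)).liftQ L.mkQ ?_) fun y => ?_
          · rw [Submodule.ker_mkQ]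
            intro z hz
            obtain ⟨w, -, rfl⟩ := (Submodule.mem_smul_pointwise_iff_exists z x _).1 hz
            exact ⟨w, rfl⟩
          · obtain ⟨z, rfl⟩ := Submodule.mkQ_surjective L y
            exact ⟨Submodule.Quotient.mk z, rfl⟩
        obtain ⟨c, hc⟩ := ih (M ⧸ L) (GrSyzMin.quotGr ℳ L) G hG' (ℓ + 1) (by omega) hGl hGr hdim' (ρ + m - 1)
          (fun i b => by
            cases i with
            | zero => have := hρ 0 b; show F.deg 0 b ≤ _; omega
            | succ i =>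
              show Fin.append (F.deg (i + 1)) (fun b => F.deg i b + (m : ℤ)) b ≤ _
              induction b using Fin.addCases with
              | left b => have := hρ (i + 1) b; rw [Fin.append_left]; push_cast at *; omega
              | right b => have := hρ i b; rw [Fin.append_right]; push_cast at *; omega)
          (by
            obtain ⟨i, b, hb⟩ := hρ'
            refine ⟨i + 1, Fin.natAdd _ b, ?_⟩
            show Fin.append (F.deg (i + 1)) (fun b => F.deg i b + (m : ℤ)) (Fin.natAdd _ b) = _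
            rw [Fin.append_right]
            push_cast
            omega)
        change Fin.append (F.deg (ℓ + 1)) (fun b => F.deg ℓ b + (m : ℤ)) c = _ at hc
        induction c using Fin.addCases with
        | left c => exact (Fin.cast (hℓ (ℓ + 1) (Nat.lt_succ_self ℓ)) c).elim0
        | right c =>
          rw [Fin.append_right] at hc
          push_cast at hc
          exact ⟨c, by omega⟩

end Last

section Poly

open Polynomial

lemma asc_eval_neg_zero : ∀ (n j : ℕ), j < n → (ascPochhammer ℚ n).eval (-(j : ℚ)) = 0 := by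
  intro n
  induction n with
  | zero => intro j hj; omega
  | succ n ih =>
    intro j hj
    rw [ascPochhammer_succ_eval]
    rcases Nat.lt_or_ge j n with h | h
    · rw [ih j h, zero_mul]
    · obtain rfl : j = n := by omega
      simp

lemma asc_eval_neg_self : ∀ n : ℕ, (ascPochhammer ℚ n).eval (-(n : ℚ)) = (-1) ^ n * (n.factorial : ℚ) := by
  intro n
  induction n with
  | zero => simp
  | succ n ih =>
    rw [ascPochhammer_succ_left, eval_mul, eval_X, eval_comp, eval_add, eval_X, eval_one,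
      show -(((n + 1 : ℕ)) : ℚ) + 1 = -(n : ℚ) by push_cast; ring, ih, Nat.factorial_succ, pow_succ]
    push_cast
    ring

/-- The polynomial counting monomials of degree `x - a` in `n + 1` variables. -/
def cPoly (n : ℕ) (a : ℤ) : Polynomial ℚ :=
  C ((n.factorial : ℚ)⁻¹) * (ascPochhammer ℚ n).comp (X + C (1 - (a : ℚ)))

lemma cPoly_eval (n : ℕ) (a d : ℤ) :
    (cPoly n a).eval (d : ℚ) = (n.factorial : ℚ)⁻¹ * (ascPochhammer ℚ n).eval (((d - a + 1 : ℤ)) : ℚ) := by
  rw [cPoly, eval_mul, eval_C, eval_comp, eval_add, eval_X, eval_C]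
  congr 2
  push_cast
  ring

lemma cPoly_eval_nonneg (n : ℕ) {a d : ℤ} (h : a ≤ d) :
    (cPoly n a).eval (d : ℚ) = ((Nat.choose (n + (d - a).toNat) n : ℕ) : ℚ) := by
  obtain ⟨N, hN⟩ : ∃ N : ℕ, d - a = N := ⟨(d - a).toNat, by omega⟩
  rw [cPoly_eval, hN, show ((N : ℤ) + 1 : ℤ) = ((N + 1 : ℕ) : ℤ) by push_cast; rfl, Int.cast_natCast,
    ← ascPochhammer_eval_cast, ascPochhammer_nat_eq_ascFactorial, Nat.ascFactorial_eq_factorial_mul_choose,
    Int.toNat_natCast, add_comm N n]
  push_cast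
  rw [← mul_assoc, inv_mul_cancel₀ (by exact_mod_cast n.factorial_ne_zero), one_mul]

lemma cPoly_eval_low (n : ℕ) {a d : ℤ} (h : d - a + 1 ≤ 0) (h' : -(n : ℤ) < d - a + 1) :
    (cPoly n a).eval (d : ℚ) = 0 := by
  obtain ⟨j, hj⟩ : ∃ j : ℕ, d - a + 1 = -(j : ℤ) := ⟨(-(d - a + 1)).toNat, by omega⟩
  rw [cPoly_eval, hj, Int.cast_neg, Int.cast_natCast, asc_eval_neg_zero n j (by omega), mul_zero]

lemma cPoly_eval_edge (n : ℕ) {a d : ℤ} (h : d - a + 1 = -(n : ℤ)) : (cPoly n a).eval (d : ℚ) = (-1) ^ n := by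
  rw [cPoly_eval, h, Int.cast_neg, Int.cast_natCast, asc_eval_neg_self, mul_comm ((-1 : ℚ) ^ n), ← mul_assoc,
    inv_mul_cancel₀ (by exact_mod_cast n.factorial_ne_zero), one_mul]

end Poly

/-- The Hilbert function misses the Hilbert polynomial one step below the bound. -/
theorem finrank_ne_eval (k : Type u) [Field k] [IsAlgClosed k] [CharZero k] (n : ℕ) (M : Type u) [AddCommGroup M]
    [Module k M] [Module (MvPolynomial (Fin (n + 1)) k) M] [IsScalarTower k (MvPolynomial (Fin (n + 1)) k) M]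
    [Module.Finite (MvPolynomial (Fin (n + 1)) k) M] (ℳ : ℤ → Submodule k M) [DirectSum.Decomposition ℳ]
    [SetLike.GradedSMul (GrSyz.stdGr k (Fin (n + 1))) ℳ]
    (hCM : Module.supportDim (MvPolynomial (Fin (n + 1)) k) M =
      ((LocCoh.idealDepth (GrSyz.irrel (GrSyz.stdGr k (Fin (n + 1)))).toIdeal M : ℕ∞) : WithBot ℕ∞))
    (F : GrSyz.FreeRes (GrSyz.stdGr k (Fin (n + 1))) ℳ)
    (hF : F.IsMinimal (GrSyz.irrel (GrSyz.stdGr k (Fin (n + 1)))).toIdeal) (ℓ : ℕ) (hℓ : F.HasLengthLE ℓ)
    (hℓ' : F.rk ℓ ≠ 0) (ρ : ℤ) (hρ : F.IsGenLE ρ) (hρ' : ∃ (i : ℕ) (b : Fin (F.rk i)), F.deg i b = ρ + i)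
    (P : Polynomial ℚ) (hP : ∃ d₁ : ℤ, ∀ d : ℤ, d₁ ≤ d → ((Module.finrank k ↥(ℳ d) : ℤ) : ℚ) = P.eval (d : ℚ)) :
    ((Module.finrank k ↥(ℳ (ρ + ℓ - n - 1)) : ℤ) : ℚ) ≠ P.eval ((ρ + ℓ - n - 1 : ℤ) : ℚ) := by
  have hAB := S16323.result k n M ℳ F hF ℓ hℓ hℓ'
  have hdim : Module.supportDim (MvPolynomial (Fin (n + 1)) k) M + (ℓ : WithBot ℕ∞) ≤ ((n + 1 : ℕ) : WithBot ℕ∞) := by
    rw [hCM, add_comm]
    exact le_of_eq (by exact_mod_cast congrArg (fun t : ℕ∞ => (t : WithBot ℕ∞)) hAB)
  obtain ⟨b₁, hb₁⟩ := exists_last (n + 1) M ℳ F hF ℓ (by omega) hℓ hℓ' hdim ρ hρ hρ'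
  obtain ⟨d₁, hd₁⟩ := hP
  let Q : Polynomial ℚ := ∑ i ∈ Finset.range (ℓ + 1), (-1 : Polynomial ℚ) ^ i * ∑ b : Fin (F.rk i), cPoly n (F.deg i b)
  have hQ : ∀ d : ℤ, Q.eval (d : ℚ) = ∑ i ∈ Finset.range (ℓ + 1), (-1 : ℚ) ^ i * ∑ b : Fin (F.rk i), (cPoly n (F.deg i b)).eval (d : ℚ) := fun d => by
    simp only [Q, Polynomial.eval_finsetSum, Polynomial.eval_mul, Polynomial.eval_pow, Polynomial.eval_neg, Polynomial.eval_one]
  let e : ℤ → ∀ i : ℕ, Fin (F.rk i) → ℚ := fun d i b =>
    (if F.deg i b ≤ d then ((Nat.choose (n + (d - F.deg i b).toNat) n : ℕ) : ℚ) else 0) - (cPoly n (F.deg i b)).eval (d : ℚ)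
  have hdiff : ∀ d : ℤ, ((Module.finrank k ↥(ℳ d) : ℤ) : ℚ) - Q.eval (d : ℚ) =
      ∑ i ∈ Finset.range (ℓ + 1), (-1 : ℚ) ^ i * ∑ b : Fin (F.rk i), e d i b := by
    intro d
    rw [S15428.result k n M ℳ F ℓ hℓ d, hQ]
    push_cast
    rw [← Finset.sum_sub_distrib]
    refine Finset.sum_congr rfl fun i _ => ?_
    rw [← mul_sub, ← Finset.sum_sub_distrib]
  have hPQ : P = Q := by
    refine Polynomial.eq_of_infinite_eval_eq _ _ (Set.Infinite.mono (s := (fun d : ℤ => (d : ℚ)) ''
      Set.Ici (max d₁ (ρ + ℓ))) ?_ ((Set.Ici_infinite _).image (Int.cast_injective.injOn)))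
    rintro _ ⟨d, hd, rfl⟩
    have h1 := hdiff d
    rw [Finset.sum_eq_zero fun i hi => ?_, sub_eq_zero] at h1
    · show P.eval (d : ℚ) = Q.eval (d : ℚ)
      rw [← h1, hd₁ d (le_trans (le_max_left _ _) hd)]
    · refine mul_eq_zero_of_right _ (Finset.sum_eq_zero fun b _ => ?_)
      have hle : F.deg i b ≤ d := by
        have := hρ i b
        have := le_trans (le_max_right _ _) (show max d₁ (ρ + ℓ) ≤ d from hd)
        have := Finset.mem_range.1 hi
        omega
      simp only [e, if_pos hle, cPoly_eval_nonneg n hle, sub_self]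
  intro heq
  have h1 := hdiff (ρ + ℓ - n - 1)
  rw [heq, hPQ, sub_self] at h1
  have hterm : ∀ i ∈ Finset.range (ℓ + 1), ∀ b : Fin (F.rk i),
      e (ρ + ℓ - n - 1) i b = if F.deg i b = ρ + ℓ then -(-1 : ℚ) ^ n else 0 := by
    intro i hi b
    have hb := hρ i b
    have hi' := Finset.mem_range.1 hi
    rcases eq_or_ne (F.deg i b) (ρ + ℓ) with h | h
    · rw [if_pos h]
      simp only [e]
      rw [if_neg (by omega), cPoly_eval_edge n (by omega), zero_sub]
    · rw [if_neg h]
      simp only [e]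
      rcases le_or_gt (F.deg i b) (ρ + ℓ - n - 1) with hle | hlt
      · rw [if_pos hle, cPoly_eval_nonneg n hle, sub_self]
      · rw [if_neg (not_le.2 hlt), cPoly_eval_low n (by omega) (by omega), sub_self]
  rw [Finset.sum_eq_single ℓ (fun i hi hne => ?_) (fun h => absurd (Finset.mem_range.2 (Nat.lt_succ_self ℓ)) h)] at h1
  · rw [Finset.sum_congr rfl fun b _ => hterm ℓ (Finset.mem_range.2 (Nat.lt_succ_self ℓ)) b, ← Finset.sum_filter,
      Finset.sum_const] at h1
    have hpos : (Finset.univ.filter fun b => F.deg ℓ b = ρ + ℓ).card ≠ 0 :=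
      (Finset.card_pos.2 ⟨b₁, Finset.mem_filter.2 ⟨Finset.mem_univ _, hb₁⟩⟩).ne'
    rw [nsmul_eq_mul] at h1
    exact mul_ne_zero (pow_ne_zero _ (by norm_num)) (mul_ne_zero (Nat.cast_ne_zero.2 hpos)
      (neg_ne_zero.2 (pow_ne_zero _ (by norm_num)))) h1.symm
  · refine mul_eq_zero_of_right _ (Finset.sum_eq_zero fun b _ => ?_)
    rw [hterm i hi b, if_neg]
    have := hρ i b
    have := Finset.mem_range.1 hi
    omega

end Groth.Agent.HilbSharp
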